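import Cfsg.Agent.Lib.Helper3.L37.L1D
import Cfsg.Agent.Lib.Helper3.L37.Net

set_option autoImplicit false
set_option maxRecDepth 100000

namespace Cfsg.Agent.Lib.Helper3.L37.L1

open Cfsg.Agent.Lib.Helper11 Cfsg.Agent.Lib.Helper3

set_option maxHeartbeats 0
set_option Elab.async false

noncomputable def fc (i : ℕ) : ℕ := (fc0_0 i)
noncomputable def sc (i : ℕ) : ℕ := (sc0_0 i)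
noncomputable def nc (i : ℕ) : ℕ := (nc0_0 i)
noncomputable def cc (i : ℕ) : ℕ := (cc0_0 i)

def isH (l : ℕ) : Bool := decide (l ∈ [5, 7])
def gens : List ℕ := [1, 2]
def hl : List ℕ := [5, 7]
def dl : List (List ℕ × ℕ) := [([1], 3), ([2], 4), ([1, 4, 1, 2], 6), ([6], 5), ([2, 1, 2, 2, 3, 4], 7), ([5, 7, 6], 8), ([7, 6, 7, 6, 7, 5, 7, 6, 7, 6, 7, 6, 7, 5], 10), ([10], 9), ([9, 9, 8, 9, 8, 10, 8], 12), ([12], 11), ([8, 10, 8, 9, 9, 8, 10, 10], 14), ([14], 13)]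
def BR_0 : List (List ℕ) := [[], [1, 4, 1, 2, 6], [2, 1, 2, 2, 3, 4, 7], [5, 7, 6, 8], [7, 6, 7, 6, 7, 5, 7, 6, 7, 6, 7, 6, 7, 5, 10], [9, 9, 8, 9, 8, 10, 8, 12], [8, 10, 8, 9, 9, 8, 10, 10, 14], [1, 1, 1], [2, 2, 2, 2], [4, 4, 4, 4], [1, 2, 1, 2, 1, 2, 1, 2, 1, 2, 1, 2, 1, 2, 1, 2, 1, 2, 1, 2, 1, 2, 1, 2, 1, 2, 1, 2, 1, 2, 1, 2, 1, 2, 1, 2, 1, 2], [1, 4, 1, 4, 1, 4, 1, 4, 1, 4, 1, 4, 1, 4, 1, 4, 1, 4, 1, 4, 1, 4, 1, 4, 1, 4, 1, 4, 1, 4, 1, 4, 1, 4, 1, 4, 1, 4], [3, 4, 3, 4, 3, 4, 3, 4, 3, 4, 3, 4, 3, 4, 3, 4, 3, 4, 3, 4, 3, 4, 3, 4, 3, 4, 3, 4, 3, 4, 3, 4, 3, 4, 3, 4, 3, 4], [1, 2, 2, 1, 2, 2, 1, 2, 2, 1, 2, 2, 1, 2, 2, 1, 2, 2, 1, 2, 2, 1, 2, 2], [1, 4, 4, 1, 4, 4, 1, 4, 4, 1, 4, 4, 1, 4, 4, 1, 4, 4, 1, 4, 4, 1, 4, 4], [3, 2, 2, 3, 2, 2,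 3, 2, 2, 3, 2, 2, 3, 2, 2, 3, 2, 2, 3, 2, 2, 3, 2, 2], [3, 4, 4, 3, 4, 4, 3, 4, 4, 3, 4, 4, 3, 4, 4, 3, 4, 4, 3, 4, 4, 3, 4, 4], [1, 1, 1, 2, 1, 1, 1, 2, 1, 1, 1, 2, 1, 1, 1, 2], [1, 1, 1, 4, 1, 1, 1, 4, 1, 1, 1, 4, 1, 1, 1, 4], [1, 2, 1, 4, 1, 2, 1, 4, 1, 2, 1, 4], [1, 2, 3, 4, 1, 2, 3, 4, 1, 2, 3, 4, 1, 2, 3, 4, 1, 2, 3, 4, 1, 2, 3, 4, 1, 2, 3, 4], [1, 4, 3, 2, 1, 4, 3, 2, 1, 4, 3, 2, 1, 4, 3, 2, 1, 4, 3, 2, 1, 4, 3, 2, 1, 4, 3, 2], [3, 2, 3, 4, 3, 2, 3, 4, 3, 2, 3, 4], [3, 2, 2, 1, 11, 8, 10, 8, 10, 6, 7, 6, 7, 5], [2, 2, 1, 4, 1, 11, 13, 8, 9, 9, 9, 6, 7, 6, 7, 6, 7, 5, 7], [4, 1, 2, 3, 2, 14, 9, 8, 9, 9, 9, 7, 6, 7, 5, 7, 6, 7, 6, 7, 6], [1, 2, 3, 2, 2, 1, 4, 3, 14, 9, 9, 9, 8, 6, 7, 6, 7, 6, 7], [2, 3, 2, 2, 1, 2, 3, 4, 3, 14, 8, 6,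 7, 6, 7, 5, 7, 5, 7, 6], [3, 2, 1, 4, 1, 4, 3, 4, 3, 11, 14, 8, 10, 10, 8, 10, 6, 7, 6, 7, 6, 7, 6], [2, 1, 2, 3, 2, 1, 2, 1, 4, 11, 8, 10, 8, 10, 6, 7, 6], [2, 3, 2, 1, 2, 1, 2, 3, 4, 1, 4, 1, 4, 12, 8, 9, 8, 9, 7, 6, 7, 6, 7, 5]]
def BR : List (List ℕ) := BR_0
def rt : RT := (.node 19 (.node 9 (.node 4 (.node 2 (.node 1 (.leaf 0 0 []) (.leaf 1 2 [1, 2, 6, 1, 4])) (.node 3 (.leaf 7 1 [1, 1, 1]) (.leaf 2 3 [2, 3, 4, 7, 2, 1, 2]))) (.node 6 (.node 5 (.leaf 8 2 [2, 2, 2, 2]) (.leaf 3 3 [8, 5, 7, 6])) (.node 7 (.leaf 4 14 [10, 7, 6, 7, 6, 7, 5, 7, 6, 7, 6, 7, 6, 7, 5]) (.node 8 (.leaf 5 7 [12, 9, 9, 8, 9, 8, 10, 8]) (.leaf 6 8 [14, 8, 10, 8, 9, 9, 8, 10, 10]))))) (.node 14 (.node 11 (.node 10 (.leaf 23 2 [2, 1, 11, 8, 10, 8, 10, 6, 7, 6, 7,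 5, 3, 2]) (.leaf 24 2 [1, 4, 1, 11, 13, 8, 9, 9, 9, 6, 7, 6, 7, 6, 7, 5, 7, 2, 2])) (.node 12 (.leaf 7 2 [1, 1, 1]) (.node 13 (.leaf 19 9 [2, 1, 4, 1, 2, 1, 4, 1, 2, 1, 4, 1]) (.leaf 25 2 [2, 3, 2, 14, 9, 8, 9, 9, 9, 7, 6, 7, 5, 7, 6, 7, 6, 7, 6, 4, 1])))) (.node 16 (.node 15 (.leaf 19 4 [1, 2, 1, 4, 1, 2, 1, 4, 1, 2, 1, 4]) (.leaf 20 14 [3, 4, 1, 2, 3, 4, 1, 2, 3, 4, 1, 2, 3, 4, 1, 2, 3, 4, 1, 2, 3, 4, 1, 2, 3, 4, 1, 2])) (.node 17 (.leaf 13 15 [1, 2, 2, 1, 2, 2, 1, 2, 2, 1, 2, 2, 1, 2, 2, 1, 2, 2, 1, 2, 2, 1, 2, 2]) (.node 18 (.leaf 19 8 [1, 2, 1, 4, 1, 2, 1, 4, 1, 2, 1, 4]) (.leaf 26 4 [2, 1, 4, 3, 14, 9, 9, 9, 8, 6, 7, 6, 7, 6, 7, 1, 2, 3, 2])))))) (.node 29 (.node 24 (.node 21 (.node 20 (.leaf 27 4 [1, 2, 3, 4, 3, 14, 8, 6, 7, 6, 7,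 5, 7, 5, 7, 6, 2, 3, 2, 2]) (.leaf 28 4 [1, 4, 3, 4, 3, 11, 14, 8, 10, 10, 8, 10, 6, 7, 6, 7, 6, 7, 6, 3, 2, 1, 4])) (.node 22 (.leaf 19 3 [4, 1, 2, 1, 4, 1, 2, 1, 4, 1, 2, 1]) (.node 23 (.leaf 21 10 [3, 2, 1, 4, 3, 2, 1, 4, 3, 2, 1, 4, 3, 2, 1, 4, 3, 2, 1, 4, 3, 2, 1, 4, 3, 2, 1, 4]) (.leaf 9 2 [4, 4, 4, 4])))) (.node 26 (.node 25 (.leaf 29 4 [2, 1, 2, 1, 4, 11, 8, 10, 8, 10, 6, 7, 6, 2, 1, 2, 3]) (.leaf 13 5 [2, 1, 2, 2, 1, 2, 2, 1, 2, 2, 1, 2, 2, 1, 2, 2, 1, 2, 2, 1, 2, 2, 1, 2])) (.node 27 (.leaf 15 22 [2, 2, 3, 2, 2, 3, 2, 2, 3, 2, 2, 3, 2, 2, 3, 2, 2, 3, 2, 2, 3, 2, 2, 3]) (.node 28 (.leaf 21 8 [1, 4, 3, 2, 1, 4, 3, 2, 1, 4, 3, 2, 1, 4, 3, 2, 1, 4, 3, 2, 1, 4, 3, 2, 1, 4, 3, 2]) (.leaf 22 9 [2, 3, 4, 3, 2, 3, 4, 3, 2, 3, 4, 3])))))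 (.node 34 (.node 31 (.node 30 (.leaf 14 23 [4, 1, 4, 4, 1, 4, 4, 1, 4, 4, 1, 4, 4, 1, 4, 4, 1, 4, 4, 1, 4, 4, 1, 4]) (.leaf 19 6 [1, 4, 1, 2, 1, 4, 1, 2, 1, 4, 1, 2])) (.node 32 (.leaf 12 7 [4, 3, 4, 3, 4, 3, 4, 3, 4, 3, 4, 3, 4, 3, 4, 3, 4, 3, 4, 3, 4, 3, 4, 3, 4, 3, 4, 3, 4, 3, 4, 3, 4, 3, 4, 3, 4, 3]) (.node 33 (.leaf 17 7 [2, 1, 1, 1, 2, 1, 1, 1, 2, 1, 1, 1, 2, 1, 1, 1]) (.leaf 30 6 [2, 3, 4, 1, 4, 1, 4, 12, 8, 9, 8, 9, 7, 6, 7, 6, 7, 5, 2, 3, 2, 1, 2, 1])))) (.node 36 (.node 35 (.leaf 10 5 [2, 1, 2, 1, 2, 1, 2, 1, 2, 1, 2, 1, 2, 1, 2, 1, 2, 1, 2, 1, 2, 1, 2, 1, 2, 1, 2, 1, 2, 1, 2, 1, 2, 1, 2, 1, 2, 1]) (.leaf 11 5 [4, 1, 4, 1, 4, 1, 4, 1, 4, 1, 4, 1, 4, 1, 4, 1, 4, 1, 4, 1, 4, 1, 4, 1, 4, 1, 4, 1, 4, 1, 4, 1, 4, 1, 4, 1, 4, 1])) (.node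 37 (.leaf 14 3 [1, 4, 4, 1, 4, 4, 1, 4, 4, 1, 4, 4, 1, 4, 4, 1, 4, 4, 1, 4, 4, 1, 4, 4]) (.node 38 (.leaf 16 19 [4, 4, 3, 4, 4, 3, 4, 4, 3, 4, 4, 3, 4, 4, 3, 4, 4, 3, 4, 4, 3, 4, 4, 3]) (.leaf 18 10 [1, 4, 1, 1, 1, 4, 1, 1, 1, 4, 1, 1, 1, 4, 1, 1])))))))

theorem b0 : allR (guardB 1 (blk fc sc rt.get Cfsg.Agent.Lib.Helper3.L37.INV isH)) 1 0 = true := by decide +kernel
theorem c0 : allR (guardB 2 (cblk fc nc cc 256 57 79228162514264337593543950336 gens)) 1 0 = true := by decide +kernel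

theorem chkAll : ∀ j < 1, blk fc sc rt.get Cfsg.Agent.Lib.Helper3.L37.INV isH j = true :=
  guardB_spec (D := 1) b0 (by norm_num)

theorem clAll : ∀ jb < 2, cblk fc nc cc (256 * 1) 57 79228162514264337593543950336 gens jb = true :=
  guardB_spec (D := 1) c0 (by norm_num)

theorem hid_0 : BR_0.all (wordId (ntOf Cfsg.Agent.Lib.Helper3.L37.ntl) 6) = true := by decide +kernel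
theorem hid : BR.all (wordId (ntOf Cfsg.Agent.Lib.Helper3.L37.ntl) 6) = true := by
  simp only [BR, List.all_append, hid_0, Bool.and_self]

theorem card_eq : Nat.card (lgrp (vL Cfsg.Agent.Lib.Helper3.L37.ntl Cfsg.Agent.Lib.Helper3.L37.deg) gens) = 57 * Nat.card (lgrp (vL Cfsg.Agent.Lib.Helper3.L37.ntl Cfsg.Agent.Lib.Helper3.L37.deg) hl) :=
  Cfsg.Agent.Lib.Helper3.L37.setup.level gens hl dl BR (by decide +kernel) (by decide +kernel) hid (by decide +kernel)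
    (by decide +kernel) rt (by decide +kernel) isH (fun l h => of_decide_eq_true h) fc sc nc cc 1 2 57 79228162514264337593543950336
    (by norm_num) (by norm_num) (by decide +kernel) (by decide) chkAll clAll
    0 0 7 (by norm_num [Cfsg.Agent.Lib.Helper3.L37.deg]) (by norm_num [Cfsg.Agent.Lib.Helper3.L37.deg]) (by decide +kernel) (by decide +kernel)

theorem ub {M : Type*} [Group M] (w : ℕ → M) (h0 : w 0 = 1) (hinv : ∀ l, w (invL Cfsg.Agent.Lib.Helper3.L37.INV l) = (w l)⁻¹)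
    (hBR : ∀ r ∈ BR, (r.map w).prod = 1)
    (hdlr : ∀ r ∈ dl.map (fun p => p.1 ++ [p.2]), (r.map w).prod = 1) (N : ℕ) (hN : Bd w hl N) :
    Bd w gens (57 * N) :=
  level_bd w Cfsg.Agent.Lib.Helper3.L37.INV h0 hinv gens hl dl BR (by decide +kernel) hdlr hBR (by decide +kernel) (by decide +kernel)
    rt (by decide +kernel) isH (fun l h => of_decide_eq_true h) fc sc nc cc 1 2 57 79228162514264337593543950336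
    (by norm_num) (by norm_num) (by decide +kernel) (by decide) chkAll clAll N hN

end Cfsg.Agent.Lib.Helper3.L37.L1
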