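import Cfsg.Agent.Lib.Helper3.L37.L2D
import Cfsg.Agent.Lib.Helper3.L37.Net

set_option autoImplicit false
set_option maxRecDepth 100000

namespace Cfsg.Agent.Lib.Helper3.L37.L2

open Cfsg.Agent.Lib.Helper11 Cfsg.Agent.Lib.Helper3

set_option maxHeartbeats 0
set_option Elab.async false

noncomputable def fc (i : ℕ) : ℕ := (fc0_0 i)
noncomputable def sc (i : ℕ) : ℕ := (sc0_0 i)
noncomputable def nc (i : ℕ) : ℕ := (nc0_0 i)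
noncomputable def cc (i : ℕ) : ℕ := (cc0_0 i)

def isH (l : ℕ) : Bool := decide (l ∈ [8, 9])
def gens : List ℕ := [5, 7]
def hl : List ℕ := [8, 9]
def dl : List (List ℕ × ℕ) := [([5], 6), ([5, 7, 6], 8), ([7, 6, 7, 6, 7, 5, 7, 6, 7, 6, 7, 6, 7, 5], 10), ([10], 9), ([9, 9, 8, 9, 8, 10, 8], 12), ([12], 11), ([8, 10, 8, 9, 9, 8, 10, 10], 14), ([14], 13)]
def BR_0 : List (List ℕ) := [[], [5, 7, 6, 8], [7, 6, 7, 6, 7, 5, 7, 6, 7, 6, 7, 6, 7, 5, 10], [9, 9, 8, 9, 8, 10, 8, 12], [8, 10, 8, 9, 9, 8, 10, 10, 14], [5, 5, 5], [5, 7, 5, 7, 5, 7, 5, 7, 5, 7, 5, 7, 5, 7, 5, 7, 5, 7, 5, 7, 5, 7, 5, 7, 5, 7, 5, 7, 5, 7, 5, 7], [5, 5, 5, 7, 5, 5, 5, 7], [7, 5, 7, 6, 7, 12, 12, 9, 8, 9, 9, 9], [7, 6, 7, 5, 7, 5, 7, 5, 7, 5, 7, 5, 7, 5, 14, 9, 9, 8], [7, 6, 7, 5, 7, 6, 7, 5, 7, 5, 7, 5, 7, 5, 7, 11, 11, 11,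 10, 8, 9, 9, 9], [6, 7, 5, 7, 6, 7, 5, 7, 5, 7, 6, 7, 5, 7, 6, 7, 5, 11, 8, 9, 8, 9, 8], [6, 7, 6, 7, 5, 7, 6, 7, 5, 7, 5, 7, 6, 7, 5, 7, 5, 11, 11, 8, 10, 10, 8]]
def BR : List (List ℕ) := BR_0
def rt : RT := (.node 15 (.node 7 (.node 3 (.node 1 (.leaf 0 0 []) (.node 2 (.leaf 1 1 [7, 6, 8, 5]) (.leaf 5 1 [5, 5, 5]))) (.node 5 (.node 4 (.leaf 7 5 [5, 5, 7, 5, 5, 5, 7, 5]) (.leaf 1 3 [8, 5, 7, 6])) (.node 6 (.leaf 2 6 [7, 6, 7, 6, 7, 6, 7, 5, 10, 7, 6, 7, 6, 7, 5]) (.leaf 3 7 [12, 9, 9, 8, 9, 8, 10, 8])))) (.node 11 (.node 9 (.node 8 (.leaf 4 8 [14, 8, 10, 8, 9, 9, 8, 10, 10]) (.leaf 8 2 [7, 6, 7, 12, 12, 9, 8, 9, 9, 9, 7, 5])) (.node 10 (.leaf 2 14 [10, 7, 6, 7, 6, 7, 5, 7, 6, 7, 6, 7, 6, 7, 5]) (.leaf 9 6 [7, 5, 7, 5, 7, 5, 7, 5, 14, 9, 9, 8, 7, 6, 7, 5, 7, 5]))) (.node 13 (.node 12 (.leaf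 10 7 [5, 7, 5, 7, 5, 7, 5, 7, 11, 11, 11, 10, 8, 9, 9, 9, 7, 6, 7, 5, 7, 6, 7]) (.leaf 11 8 [5, 7, 6, 7, 5, 7, 6, 7, 5, 11, 8, 9, 8, 9, 8, 6, 7, 5, 7, 6, 7, 5, 7])) (.node 14 (.leaf 11 17 [11, 8, 9, 8, 9, 8, 6, 7, 5, 7, 6, 7, 5, 7, 5, 7, 6, 7, 5, 7, 6, 7, 5]) (.leaf 3 0 [9, 9, 8, 9, 8, 10, 8, 12]))))) (.node 23 (.node 19 (.node 17 (.node 16 (.leaf 12 8 [5, 7, 5, 7, 6, 7, 5, 7, 5, 11, 11, 8, 10, 10, 8, 6, 7, 6, 7, 5, 7, 6, 7]) (.leaf 8 11 [9, 7, 5, 7, 6, 7, 12, 12, 9, 8, 9, 9])) (.node 18 (.leaf 12 20 [10, 10, 8, 6, 7, 6, 7, 5, 7, 6, 7, 5, 7, 5, 7, 6, 7, 5, 7, 5, 11, 11, 8]) (.leaf 9 2 [7, 5, 7, 5, 7, 5, 7, 5, 7, 5, 7, 5, 14, 9, 9, 8, 7, 6]))) (.node 21 (.node 20 (.leaf 2 12 [7, 5, 10, 7, 6, 7, 6, 7, 5, 7, 6, 7, 6, 7, 6]) (.leaf 6 30 [5, 7, 5, 7, 5, 7, 5, 7, 5, 7, 5, 7, 5, 7, 5, 7, 5, 7, 5,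 7, 5, 7, 5, 7, 5, 7, 5, 7, 5, 7, 5, 7])) (.node 22 (.leaf 9 14 [14, 9, 9, 8, 7, 6, 7, 5, 7, 5, 7, 5, 7, 5, 7, 5, 7, 5]) (.leaf 2 2 [7, 6, 7, 5, 7, 6, 7, 6, 7, 6, 7, 5, 10, 7, 6])))) (.node 27 (.node 25 (.node 24 (.leaf 4 7 [10, 14, 8, 10, 8, 9, 9, 8, 10]) (.leaf 9 15 [9, 9, 8, 7, 6, 7, 5, 7, 5, 7, 5, 7, 5, 7, 5, 7, 5, 14])) (.node 26 (.leaf 11 21 [9, 8, 6, 7, 5, 7, 6, 7, 5, 7, 5, 7, 6, 7, 5, 7, 6, 7, 5, 11, 8, 9, 8]) (.leaf 3 3 [9, 8, 10, 8, 12, 9, 9, 8]))) (.node 29 (.node 28 (.leaf 8 6 [12, 9, 8, 9, 9, 9, 7, 5, 7, 6, 7, 12]) (.leaf 12 3 [7, 5, 7, 6, 7, 5, 7, 5, 7, 6, 7, 5, 7, 5, 11, 11, 8, 10, 10, 8, 6, 7, 6])) (.node 30 (.leaf 10 8 [7, 5, 7, 5, 7, 5, 7, 11, 11, 11, 10, 8, 9, 9, 9, 7, 6, 7, 5, 7, 6, 7, 5]) (.leaf 12 11 [7, 6, 7, 5, 7, 5, 11, 11, 8, 10, 10, 8, 6, 7, 6, 7, 5, 7, 6, 7, 5,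 7, 5]))))))

theorem b0 : allR (guardB 2 (blk fc sc rt.get Cfsg.Agent.Lib.Helper3.L37.INV isH)) 1 0 = true := by decide +kernel
theorem c0 : allR (guardB 2 (cblk fc nc cc 512 56 79228162514264337593543950336 gens)) 1 0 = true := by decide +kernel

theorem chkAll : ∀ j < 2, blk fc sc rt.get Cfsg.Agent.Lib.Helper3.L37.INV isH j = true :=
  guardB_spec (D := 1) b0 (by norm_num)

theorem clAll : ∀ jb < 2, cblk fc nc cc (256 * 2) 56 79228162514264337593543950336 gens jb = true :=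
  guardB_spec (D := 1) c0 (by norm_num)

theorem hid_0 : BR_0.all (wordId (ntOf Cfsg.Agent.Lib.Helper3.L37.ntl) 6) = true := by decide +kernel
theorem hid : BR.all (wordId (ntOf Cfsg.Agent.Lib.Helper3.L37.ntl) 6) = true := by
  simp only [BR, List.all_append, hid_0, Bool.and_self]

theorem card_eq : Nat.card (lgrp (vL Cfsg.Agent.Lib.Helper3.L37.ntl Cfsg.Agent.Lib.Helper3.L37.deg) gens) = 56 * Nat.card (lgrp (vL Cfsg.Agent.Lib.Helper3.L37.ntl Cfsg.Agent.Lib.Helper3.L37.deg) hl) :=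
  Cfsg.Agent.Lib.Helper3.L37.setup.level gens hl dl BR (by decide +kernel) (by decide +kernel) hid (by decide +kernel)
    (by decide +kernel) rt (by decide +kernel) isH (fun l h => of_decide_eq_true h) fc sc nc cc 2 2 56 79228162514264337593543950336
    (by norm_num) (by norm_num) (by decide +kernel) (by decide) chkAll clAll
    1 1 9 (by norm_num [Cfsg.Agent.Lib.Helper3.L37.deg]) (by norm_num [Cfsg.Agent.Lib.Helper3.L37.deg]) (by decide +kernel) (by decide +kernel)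

theorem ub {M : Type*} [Group M] (w : ℕ → M) (h0 : w 0 = 1) (hinv : ∀ l, w (invL Cfsg.Agent.Lib.Helper3.L37.INV l) = (w l)⁻¹)
    (hBR : ∀ r ∈ BR, (r.map w).prod = 1)
    (hdlr : ∀ r ∈ dl.map (fun p => p.1 ++ [p.2]), (r.map w).prod = 1) (N : ℕ) (hN : Bd w hl N) :
    Bd w gens (56 * N) :=
  level_bd w Cfsg.Agent.Lib.Helper3.L37.INV h0 hinv gens hl dl BR (by decide +kernel) hdlr hBR (by decide +kernel) (by decide +kernel)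
    rt (by decide +kernel) isH (fun l h => of_decide_eq_true h) fc sc nc cc 2 2 56 79228162514264337593543950336
    (by norm_num) (by norm_num) (by decide +kernel) (by decide) chkAll clAll N hN

end Cfsg.Agent.Lib.Helper3.L37.L2
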