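import Cfsg.Agent.Lib.Helper3.L37.L3D
import Cfsg.Agent.Lib.Helper3.L37.Net

set_option autoImplicit false
set_option maxRecDepth 100000

namespace Cfsg.Agent.Lib.Helper3.L37.L3

open Cfsg.Agent.Lib.Helper11 Cfsg.Agent.Lib.Helper3

set_option maxHeartbeats 0
set_option Elab.async false

noncomputable def fc (i : ℕ) : ℕ := (fc0_0 i)
noncomputable def sc (i : ℕ) : ℕ := (sc0_0 i)
noncomputable def nc (i : ℕ) : ℕ := (nc0_0 i)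
noncomputable def cc (i : ℕ) : ℕ := (cc0_0 i)

def isH (l : ℕ) : Bool := decide (l ∈ [11, 13])
def gens : List ℕ := [8, 9]
def hl : List ℕ := [11, 13]
def dl : List (List ℕ × ℕ) := [([9], 10), ([9, 9, 8, 9, 8, 10, 8], 12), ([12], 11), ([8, 10, 8, 9, 9, 8, 10, 10], 14), ([14], 13)]
def BR_0 : List (List ℕ) := [[], [9, 9, 8, 9, 8, 10, 8, 12], [8, 10, 8, 9, 9, 8, 10, 10, 14], [9, 9, 9, 9, 9, 9], [8, 9, 8, 9, 8, 9, 8, 9, 8, 9, 8, 9], [8, 9, 9, 8, 9, 9, 8, 9, 9, 8, 9, 9, 8, 9, 9, 8, 9, 9], [8, 10, 10, 8, 10, 10, 8, 10, 10, 8, 10, 10, 8, 10, 10, 8, 10, 10], [8, 9, 8, 10, 8, 9, 8, 10, 8, 9, 8, 10, 8, 9, 8, 10, 8, 9, 8, 10, 8, 9, 8, 10, 8, 9, 8, 10], [8, 9, 9, 8, 10, 8, 9, 12]]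
def BR : List (List ℕ) := BR_0
def rt : RT := (.node 11 (.node 5 (.node 2 (.node 1 (.leaf 0 0 []) (.leaf 2 4 [9, 8, 10, 10, 14, 8, 10, 8, 9])) (.node 3 (.leaf 1 3 [9, 8, 10, 8, 12, 9, 9, 8]) (.node 4 (.leaf 3 3 [9, 9, 9, 9, 9, 9]) (.leaf 1 7 [12, 9, 9, 8, 9, 8, 10, 8])))) (.node 8 (.node 6 (.leaf 3 1 [9, 9, 9, 9, 9, 9]) (.node 7 (.leaf 8 3 [8, 10, 8, 9, 12, 8, 9, 9]) (.leaf 8 7 [12, 8, 9, 9, 8, 10, 8, 9]))) (.node 9 (.leaf 8 2 [9, 8, 10, 8, 9, 12, 8, 9]) (.node 10 (.leaf 1 5 [10, 8, 12, 9, 9, 8, 9, 8]) (.leaf 1 1 [9, 8, 9, 8, 10, 8, 12, 9]))))) (.node 17 (.node 14 (.node 12 (.leaf 3 2 [9, 9, 9, 9, 9, 9]) (.node 13 (.leaf 5 12 [8, 9, 9, 8, 9, 9, 8, 9, 9, 8, 9, 9, 8, 9, 9, 8, 9, 9]) (.leaf 7 27 [10, 8, 9, 8, 10, 8, 9, 8, 10, 8, 9, 8, 10, 8, 9, 8, 10, 8, 9, 8, 10, 8, 9, 8, 10, 8, 9, 8]))) (.node 15 (.leaf 1 6 [8, 12, 9, 9, 8, 9, 8, 10]) (.node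 16 (.leaf 1 4 [8, 10, 8, 12, 9, 9, 8, 9]) (.leaf 4 6 [8, 9, 8, 9, 8, 9, 8, 9, 8, 9, 8, 9])))) (.node 20 (.node 18 (.leaf 5 9 [8, 9, 9, 8, 9, 9, 8, 9, 9, 8, 9, 9, 8, 9, 9, 8, 9, 9]) (.node 19 (.leaf 7 12 [8, 9, 8, 10, 8, 9, 8, 10, 8, 9, 8, 10, 8, 9, 8, 10, 8, 9, 8, 10, 8, 9, 8, 10, 8, 9, 8, 10]) (.leaf 6 7 [10, 10, 8, 10, 10, 8, 10, 10, 8, 10, 10, 8, 10, 10, 8, 10, 10, 8]))) (.node 21 (.leaf 1 2 [8, 9, 8, 10, 8, 12, 9, 9]) (.node 22 (.leaf 1 0 [9, 9, 8, 9, 8, 10, 8, 12]) (.leaf 7 5 [9, 8, 10, 8, 9, 8, 10, 8, 9, 8, 10, 8, 9, 8, 10, 8, 9, 8, 10, 8, 9, 8, 10, 8, 9, 8, 10, 8]))))))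

theorem b0 : allR (guardB 1 (blk fc sc rt.get Cfsg.Agent.Lib.Helper3.L37.INV isH)) 1 0 = true := by decide +kernel
theorem c0 : allR (guardB 2 (cblk fc nc cc 256 49 79228162514264337593543950336 gens)) 1 0 = true := by decide +kernel

theorem chkAll : ∀ j < 1, blk fc sc rt.get Cfsg.Agent.Lib.Helper3.L37.INV isH j = true :=
  guardB_spec (D := 1) b0 (by norm_num)

theorem clAll : ∀ jb < 2, cblk fc nc cc (256 * 1) 49 79228162514264337593543950336 gens jb = true :=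
  guardB_spec (D := 1) c0 (by norm_num)

theorem hid_0 : BR_0.all (wordId (ntOf Cfsg.Agent.Lib.Helper3.L37.ntl) 6) = true := by decide +kernel
theorem hid : BR.all (wordId (ntOf Cfsg.Agent.Lib.Helper3.L37.ntl) 6) = true := by
  simp only [BR, List.all_append, hid_0, Bool.and_self]

theorem card_eq : Nat.card (lgrp (vL Cfsg.Agent.Lib.Helper3.L37.ntl Cfsg.Agent.Lib.Helper3.L37.deg) gens) = 49 * Nat.card (lgrp (vL Cfsg.Agent.Lib.Helper3.L37.ntl Cfsg.Agent.Lib.Helper3.L37.deg) hl) :=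
  Cfsg.Agent.Lib.Helper3.L37.setup.level gens hl dl BR (by decide +kernel) (by decide +kernel) hid (by decide +kernel)
    (by decide +kernel) rt (by decide +kernel) isH (fun l h => of_decide_eq_true h) fc sc nc cc 1 2 49 79228162514264337593543950336
    (by norm_num) (by norm_num) (by decide +kernel) (by decide) chkAll clAll
    2 2 6 (by norm_num [Cfsg.Agent.Lib.Helper3.L37.deg]) (by norm_num [Cfsg.Agent.Lib.Helper3.L37.deg]) (by decide +kernel) (by decide +kernel)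

theorem ub {M : Type*} [Group M] (w : ℕ → M) (h0 : w 0 = 1) (hinv : ∀ l, w (invL Cfsg.Agent.Lib.Helper3.L37.INV l) = (w l)⁻¹)
    (hBR : ∀ r ∈ BR, (r.map w).prod = 1)
    (hdlr : ∀ r ∈ dl.map (fun p => p.1 ++ [p.2]), (r.map w).prod = 1) (N : ℕ) (hN : Bd w hl N) :
    Bd w gens (49 * N) :=
  level_bd w Cfsg.Agent.Lib.Helper3.L37.INV h0 hinv gens hl dl BR (by decide +kernel) hdlr hBR (by decide +kernel) (by decide +kernel)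
    rt (by decide +kernel) isH (fun l h => of_decide_eq_true h) fc sc nc cc 1 2 49 79228162514264337593543950336
    (by norm_num) (by norm_num) (by decide +kernel) (by decide) chkAll clAll N hN

end Cfsg.Agent.Lib.Helper3.L37.L3
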