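import Mathlib

set_option autoImplicit false
set_option maxRecDepth 100000

namespace Cfsg.Agent.Lib.Helper3.L37.L4

noncomputable def fc0_0 (i : ℕ) : ℕ := (nat_lit 0x600016c00000b0000cb00000900016b00000b00012c00000a0000cd00000600014e00000800016d00000b00010e00000800008e00000400010d00000900008c00000400012b00000900014d00000a00012e00000700008b0000040000ec00000600006b0000030000cc00000700004d0000020000ee00000500006d0000030000ae00000700006c0000030000eb00000a00010c00000800014b00000500016e00000b0000ad00000500014c00000a0000ab00000200012d00000900004e00000200010b00000800004c0000010000ed00000700002e0000010000ce00000600002d0000010000ac00000500002b00000000008d00000400000e00000000006e00000300000d00000000004b00000200000c00000000002c00000100000b)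
noncomputable def sc0_0 (i : ℕ) : ℕ := (nat_lit 0x2300002d00002a00001c0000000005000d00000800001400000400000b00000e00002900002600000d000021000022000016000b000c00001200001b00000d00001d00002000001600000700001900002700002800001e000b000b00001900002500002200000d00001400001000000000002100002600001e000012000b000a00001700002300001e0003000900001300002100001c0003000800001100001f00001c00000700000e0005000700001300001f0000180003000600001300001d0000180003000500000f00001b000018000300040000110000190000140003000300000b0000170000120003000200000300000d000015000012000006000500010000ffff0000ffff0000ffff0000ffff0000ffff0000ffff0000ffff0000ffff0000ffff0000ffff0000ffff)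
noncomputable def nc0_0 (i : ℕ) : ℕ := (nat_lit 0xb00000a000009000008000007000006000005000004000003000002000001000000)
noncomputable def cc0_0 (i : ℕ) : ℕ := (nat_lit 0x500001400000600002e00000600002b00000500001200000a00002300000b00002d00000b00002900000a00001600000200001d00000400002100000100000a00000300001f00000300001b00000100000800000800002600000900002400000000000400000700001800000900001100000800000f00000700000d000000000000000004000007000002000003)

end Cfsg.Agent.Lib.Helper3.L37.L4
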